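import Cfsg.Agent.Lib.Helper35.Simple3
import Cfsg.Agent.Lib.Helper35.PresFi22

namespace Cfsg.Agent.Lib.Helper35.Fi23Ord.P0

open Cfsg.Agent.Lib.Helper35

set_option maxRecDepth 100000
noncomputable section
def Rp : List (List Nat) := [[0, 1, 0, 1, 0, 1],
  [0, 2, 0, 2],
  [0, 3, 0, 3],
  [0, 4, 0, 4],
  [0, 5, 0, 5],
  [0, 6, 0, 6],
  [0, 7, 0, 7],
  [0, 8, 0, 8],
  [1, 2, 1, 2, 1, 2],
  [1, 3, 1, 3],
  [1, 4, 1, 4],
  [1, 5, 1, 5],
  [1, 6, 1, 6],
  [1, 7, 1, 7],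
  [1, 8, 1, 8],
  [2, 3, 2, 3, 2, 3],
  [2, 4, 2, 4],
  [2, 5, 2, 5],
  [2, 6, 2, 6],
  [2, 7, 2, 7],
  [2, 8, 2, 8],
  [3, 4, 3, 4, 3, 4],
  [3, 5, 3, 5],
  [3, 6, 3, 6],
  [3, 7, 3, 7, 3, 7],
  [3, 8, 3, 8],
  [4, 5, 4, 5, 4, 5],
  [4, 6, 4, 6],
  [4, 7, 4, 7],
  [4, 8, 4, 8],
  [5, 6, 5, 6, 5, 6],
  [5, 7, 5, 7],
  [5, 8, 5, 8],
  [6, 7, 6, 7],
  [6, 8, 6, 8],
  [7, 8, 7, 8, 7, 8],
  [3, 2, 1, 3, 4, 5, 3, 7, 8, 3, 2, 1, 3, 4, 5, 3, 7, 8, 3, 2, 1, 3, 4, 5, 3, 7, 8, 3, 2, 1, 3, 4, 5, 3, 7, 8, 3, 2, 1, 3, 4, 5, 3, 7, 8, 3, 2, 1, 3, 4, 5, 3, 7, 8, 3, 2, 1, 3, 4, 5, 3, 7, 8, 3, 2, 1, 3, 4, 5, 3, 7, 8, 3, 2, 1, 3, 4, 5, 3, 7, 8, 3, 2, 1, 3, 4, 5, 3, 7, 8],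
  [0, 1, 2, 3, 4, 5, 7, 0, 1, 2, 3, 4, 5, 7, 0, 1, 2, 3, 4, 5, 7, 0, 1, 2, 3, 4, 5, 7, 0, 1, 2, 3, 4, 5, 7, 0, 1, 2, 3, 4, 5, 7, 0, 1, 2, 3, 4, 5, 7, 0, 1, 2, 3, 4, 5, 7, 0, 1, 2, 3, 4, 5, 7]]
noncomputable def tA0 : Nat := 0x348680ce198328640c60004889011e2384688c11610411000
noncomputable def tJ0 : Nat := 0x1007030140803010000000000000000000000200
noncomputable def tA1 : Nat := 0x8480000000000104084000988000000000012c0000ac11800
noncomputable def tJ1 : Nat := 0x600000000002000000000000000000000040200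
noncomputable def tA2 : Nat := 0xd4800000000d28421c800000000000000e68001980b012000
noncomputable def tJ2 : Nat := 0x800000000601010000000000000200010000000
noncomputable def tA3 : Nat := 0x12480000091821185000001388000009b8000000000b412800
noncomputable def tJ3 : Nat := 0x8000000c0002000000000000000000000040200
noncomputable def tA4 : Nat := 0x1748005ce109130000000000000061e001070000000b813000
noncomputable def tJ4 : Nat := 0x800018040400000000000008000400000000000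
noncomputable def tA5 : Nat := 0x1c4b88084b1c00000000001d8bb0000000000000000bc13800
noncomputable def tJ5 : Nat := 0x803000080000000000000000000000000040200
noncomputable def tA6 : Nat := 0x426d00000000000000000000000000000000000c014000
noncomputable def tJ6 : Nat := 0x1010000000000000000000000000000000000
noncomputable def tA7 : Nat := 0x128210006d2b25149891d20c8000006a2000000000000c414800
noncomputable def tJ7 : Nat := 0x80400000000000000040000000000000000040200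
noncomputable def tA8 : Nat := 0x110400000000000000000001060500000000000000000fa815000
noncomputable def tJ8 : Nat := 0x80000000000000000000200
noncomputable def tA9 : Nat := 0x10a950be1682a8500961183185413c2644a08f1142144f0400000
noncomputable def tJ9 : Nat := 0x25208038180a040180280e06028100602008200000
noncomputable def tP : Nat := 0x29c4e26128904622108602e160a8502612088400000
def par : Par := ⟨11, 5, 2047, 31, 2079, 2048⟩
def tabs : Nat → Nat
  | 0 => tA0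
  | 1 => tA1
  | 2 => tA2
  | 3 => tA3
  | 4 => tA4
  | 5 => tA5
  | 6 => tA6
  | 7 => tA7
  | 8 => tA8
  | 9 => tA9
  | _ => 0
def pe (u : Nat) : Nat := Nat.land (Nat.shiftRight tP (Nat.mul u 9)) 511
def je0 (v : Nat) : Nat := Nat.land (Nat.shiftRight tJ0 (Nat.mul v 9)) 511
def stp0 (off v : Nat) : Nat := Nat.land (Nat.add (Nat.land (Nat.shiftRight tA0 (Nat.mul v 11)) 2047) off) 2079
theorem stp0_eq : ∀ off v, stp0 off v = step par (tabs 0) off v := fun _ _ => rfl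
attribute [irreducible] stp0
def je1 (v : Nat) : Nat := Nat.land (Nat.shiftRight tJ1 (Nat.mul v 9)) 511
def stp1 (off v : Nat) : Nat := Nat.land (Nat.add (Nat.land (Nat.shiftRight tA1 (Nat.mul v 11)) 2047) off) 2079
theorem stp1_eq : ∀ off v, stp1 off v = step par (tabs 1) off v := fun _ _ => rfl
attribute [irreducible] stp1
def je2 (v : Nat) : Nat := Nat.land (Nat.shiftRight tJ2 (Nat.mul v 9)) 511
def stp2 (off v : Nat) : Nat := Nat.land (Nat.add (Nat.land (Nat.shiftRight tA2 (Nat.mul v 11)) 2047) off) 2079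
theorem stp2_eq : ∀ off v, stp2 off v = step par (tabs 2) off v := fun _ _ => rfl
attribute [irreducible] stp2
def je3 (v : Nat) : Nat := Nat.land (Nat.shiftRight tJ3 (Nat.mul v 9)) 511
def stp3 (off v : Nat) : Nat := Nat.land (Nat.add (Nat.land (Nat.shiftRight tA3 (Nat.mul v 11)) 2047) off) 2079
theorem stp3_eq : ∀ off v, stp3 off v = step par (tabs 3) off v := fun _ _ => rfl
attribute [irreducible] stp3
def je4 (v : Nat) : Nat := Nat.land (Nat.shiftRight tJ4 (Nat.mul v 9)) 511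
def stp4 (off v : Nat) : Nat := Nat.land (Nat.add (Nat.land (Nat.shiftRight tA4 (Nat.mul v 11)) 2047) off) 2079
theorem stp4_eq : ∀ off v, stp4 off v = step par (tabs 4) off v := fun _ _ => rfl
attribute [irreducible] stp4
def je5 (v : Nat) : Nat := Nat.land (Nat.shiftRight tJ5 (Nat.mul v 9)) 511
def stp5 (off v : Nat) : Nat := Nat.land (Nat.add (Nat.land (Nat.shiftRight tA5 (Nat.mul v 11)) 2047) off) 2079
theorem stp5_eq : ∀ off v, stp5 off v = step par (tabs 5) off v := fun _ _ => rfl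
attribute [irreducible] stp5
def je6 (v : Nat) : Nat := Nat.land (Nat.shiftRight tJ6 (Nat.mul v 9)) 511
def stp6 (off v : Nat) : Nat := Nat.land (Nat.add (Nat.land (Nat.shiftRight tA6 (Nat.mul v 11)) 2047) off) 2079
theorem stp6_eq : ∀ off v, stp6 off v = step par (tabs 6) off v := fun _ _ => rfl
attribute [irreducible] stp6
def je7 (v : Nat) : Nat := Nat.land (Nat.shiftRight tJ7 (Nat.mul v 9)) 511
def stp7 (off v : Nat) : Nat := Nat.land (Nat.add (Nat.land (Nat.shiftRight tA7 (Nat.mul v 11)) 2047) off) 2079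
theorem stp7_eq : ∀ off v, stp7 off v = step par (tabs 7) off v := fun _ _ => rfl
attribute [irreducible] stp7
def je8 (v : Nat) : Nat := Nat.land (Nat.shiftRight tJ8 (Nat.mul v 9)) 511
def stp8 (off v : Nat) : Nat := Nat.land (Nat.add (Nat.land (Nat.shiftRight tA8 (Nat.mul v 11)) 2047) off) 2079
theorem stp8_eq : ∀ off v, stp8 off v = step par (tabs 8) off v := fun _ _ => rfl
attribute [irreducible] stp8
def je9 (v : Nat) : Nat := Nat.land (Nat.shiftRight tJ9 (Nat.mul v 9)) 511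
def stp9 (off v : Nat) : Nat := Nat.land (Nat.add (Nat.land (Nat.shiftRight tA9 (Nat.mul v 11)) 2047) off) 2079
theorem stp9_eq : ∀ off v, stp9 off v = step par (tabs 9) off v := fun _ _ => rfl
attribute [irreducible] stp9
def je : Nat → Nat → Nat
  | 0 => je0
  | 1 => je1
  | 2 => je2
  | 3 => je3
  | 4 => je4
  | 5 => je5
  | 6 => je6
  | 7 => je7
  | 8 => je8
  | 9 => je9
  | _ => fun _ => 0
def st : Nat → Nat → Nat → Nat
  | 0 => stp0
  | 1 => stp1
  | 2 => stp2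
  | 3 => stp3
  | 4 => stp4
  | 5 => stp5
  | 6 => stp6
  | 7 => stp7
  | 8 => stp8
  | 9 => stp9
  | _ => fun off v => step par 0 off v
theorem hst : ∀ l off v, st l off v = step par (tabs l) off v := by
  intro l off v
  rcases Nat.lt_or_ge l 10 with h | h
  · interval_cases l
    exacts [stp0_eq off v, stp1_eq off v, stp2_eq off v, stp3_eq off v, stp4_eq off v, stp5_eq off v, stp6_eq off v, stp7_eq off v, stp8_eq off v, stp9_eq off v]
  · obtain ⟨k, rfl⟩ : ∃ k, l = k + 10 := ⟨l - 10, by omega⟩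
    rfl
def lf0_0 : Leaf (walkS st) := ⟨[0], [], 0, 0, (fun off v => (stp0 off v)), (fun _ v => v), (fun _ u _ => u), fun _ _ => rfl, fun _ _ => rfl⟩
def lf0_2 : Leaf (walkS st) := ⟨[], [1, 0, 1], 10, 2, (fun _ v => v), (fun off v => (stp1 off (stp0 off (stp1 off v)))), (fun v _ _ => v), fun _ _ => rfl, fun _ _ => rfl⟩
def lf0_3 : Leaf (walkS st) := ⟨[], [2, 0, 2], 11, 2, (fun _ v => v), (fun off v => (stp2 off (stp0 off (stp2 off v)))), (fun v _ _ => v), fun _ _ => rfl, fun _ _ => rfl⟩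
def lf0_4 : Leaf (walkS st) := ⟨[], [3, 0, 3], 12, 2, (fun _ v => v), (fun off v => (stp3 off (stp0 off (stp3 off v)))), (fun v _ _ => v), fun _ _ => rfl, fun _ _ => rfl⟩
def lf0_5 : Leaf (walkS st) := ⟨[], [4, 0, 4], 13, 2, (fun _ v => v), (fun off v => (stp4 off (stp0 off (stp4 off v)))), (fun v _ _ => v), fun _ _ => rfl, fun _ _ => rfl⟩
def lf0_6 : Leaf (walkS st) := ⟨[], [5, 0, 5], 14, 2, (fun _ v => v), (fun off v => (stp5 off (stp0 off (stp5 off v)))), (fun v _ _ => v), fun _ _ => rfl, fun _ _ => rfl⟩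
def lf0_7 : Leaf (walkS st) := ⟨[], [6, 0, 6], 15, 2, (fun _ v => v), (fun off v => (stp6 off (stp0 off (stp6 off v)))), (fun v _ _ => v), fun _ _ => rfl, fun _ _ => rfl⟩
def lf0_8 : Leaf (walkS st) := ⟨[], [7, 0, 7], 16, 2, (fun _ v => v), (fun off v => (stp7 off (stp0 off (stp7 off v)))), (fun v _ _ => v), fun _ _ => rfl, fun _ _ => rfl⟩
def tree0 : RTree (walkS st) :=
  (.node 1 (.fork lf0_0) (.node 5 (.node 3 (.node 2 .tleaf (.fork lf0_2)) (.node 4 (.fork lf0_3) (.fork lf0_4))) (.node 7 (.node 6 (.fork lf0_5) (.fork lf0_6)) (.node 8 (.fork lf0_7) (.fork lf0_8)))))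
def lf1_0 : Leaf (walkS st) := ⟨[1], [], 1, 0, (fun off v => (stp1 off v)), (fun _ v => v), (fun _ u _ => u), fun _ _ => rfl, fun _ _ => rfl⟩
def lf1_2 : Leaf (walkS st) := ⟨[], [2, 1, 2], 20, 2, (fun _ v => v), (fun off v => (stp2 off (stp1 off (stp2 off v)))), (fun v _ _ => v), fun _ _ => rfl, fun _ _ => rfl⟩
def lf1_3 : Leaf (walkS st) := ⟨[], [7, 1, 7], 25, 2, (fun _ v => v), (fun off v => (stp7 off (stp1 off (stp7 off v)))), (fun v _ _ => v), fun _ _ => rfl, fun _ _ => rfl⟩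
def tree1 : RTree (walkS st) :=
  (.node 1 (.fork lf1_0) (.node 2 .tleaf (.node 3 (.fork lf1_2) (.fork lf1_3))))
def lf2_1 : Leaf (walkS st) := ⟨[2], [], 2, 0, (fun off v => (stp2 off v)), (fun _ v => v), (fun _ u _ => u), fun _ _ => rfl, fun _ _ => rfl⟩
def lf2_2 : Leaf (walkS st) := ⟨[], [9, 2], 2, 0, (fun _ v => v), (fun off v => (stp2 off (stp9 off v))), (fun v _ _ => v), fun _ _ => rfl, fun _ _ => rfl⟩
def lf2_3 : Leaf (walkS st) := ⟨[], [3, 2, 3], 30, 2, (fun _ v => v), (fun off v => (stp3 off (stp2 off (stp3 off v)))), (fun v _ _ => v), fun _ _ => rfl, fun _ _ => rfl⟩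
def lf2_4 : Leaf (walkS st) := ⟨[], [7, 2, 7], 34, 2, (fun _ v => v), (fun off v => (stp7 off (stp2 off (stp7 off v)))), (fun v _ _ => v), fun _ _ => rfl, fun _ _ => rfl⟩
def tree2 : RTree (walkS st) :=
  (.node 2 (.node 1 .tleaf (.fork lf2_1)) (.node 3 (.fork lf2_2) (.node 4 (.fork lf2_3) (.fork lf2_4))))
def lf3_0 : Leaf (walkS st) := ⟨[3], [], 3, 0, (fun off v => (stp3 off v)), (fun _ v => v), (fun _ u _ => u), fun _ _ => rfl, fun _ _ => rfl⟩
def lf3_2 : Leaf (walkS st) := ⟨[], [9, 3], 3, 0, (fun _ v => v), (fun off v => (stp3 off (stp9 off v))), (fun v _ _ => v), fun _ _ => rfl, fun _ _ => rfl⟩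
def lf3_3 : Leaf (walkS st) := ⟨[], [4, 3, 4], 40, 2, (fun _ v => v), (fun off v => (stp4 off (stp3 off (stp4 off v)))), (fun v _ _ => v), fun _ _ => rfl, fun _ _ => rfl⟩
def lf3_4 : Leaf (walkS st) := ⟨[], [7, 3, 7], 43, 2, (fun _ v => v), (fun off v => (stp7 off (stp3 off (stp7 off v)))), (fun v _ _ => v), fun _ _ => rfl, fun _ _ => rfl⟩
def tree3 : RTree (walkS st) :=
  (.node 1 (.fork lf3_0) (.node 2 .tleaf (.node 3 (.fork lf3_2) (.node 4 (.fork lf3_3) (.fork lf3_4)))))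
def lf4_1 : Leaf (walkS st) := ⟨[4], [], 4, 0, (fun off v => (stp4 off v)), (fun _ v => v), (fun _ u _ => u), fun _ _ => rfl, fun _ _ => rfl⟩
def lf4_2 : Leaf (walkS st) := ⟨[], [9, 4], 4, 0, (fun _ v => v), (fun off v => (stp4 off (stp9 off v))), (fun v _ _ => v), fun _ _ => rfl, fun _ _ => rfl⟩
def lf4_3 : Leaf (walkS st) := ⟨[], [5, 4, 5], 50, 2, (fun _ v => v), (fun off v => (stp5 off (stp4 off (stp5 off v)))), (fun v _ _ => v), fun _ _ => rfl, fun _ _ => rfl⟩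
def lf4_4 : Leaf (walkS st) := ⟨[], [7, 4, 7], 52, 2, (fun _ v => v), (fun off v => (stp7 off (stp4 off (stp7 off v)))), (fun v _ _ => v), fun _ _ => rfl, fun _ _ => rfl⟩
def tree4 : RTree (walkS st) :=
  (.node 2 (.node 1 .tleaf (.fork lf4_1)) (.node 3 (.fork lf4_2) (.node 4 (.fork lf4_3) (.fork lf4_4))))
def lf5_0 : Leaf (walkS st) := ⟨[5], [], 5, 0, (fun off v => (stp5 off v)), (fun _ v => v), (fun _ u _ => u), fun _ _ => rfl, fun _ _ => rfl⟩
def lf5_2 : Leaf (walkS st) := ⟨[], [9, 5], 5, 0, (fun _ v => v), (fun off v => (stp5 off (stp9 off v))), (fun v _ _ => v), fun _ _ => rfl, fun _ _ => rfl⟩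
def lf5_3 : Leaf (walkS st) := ⟨[], [6, 5, 6], 60, 2, (fun _ v => v), (fun off v => (stp6 off (stp5 off (stp6 off v)))), (fun v _ _ => v), fun _ _ => rfl, fun _ _ => rfl⟩
def lf5_4 : Leaf (walkS st) := ⟨[], [7, 5, 7], 61, 2, (fun _ v => v), (fun off v => (stp7 off (stp5 off (stp7 off v)))), (fun v _ _ => v), fun _ _ => rfl, fun _ _ => rfl⟩
def tree5 : RTree (walkS st) :=
  (.node 1 (.fork lf5_0) (.node 2 .tleaf (.node 3 (.fork lf5_2) (.node 4 (.fork lf5_3) (.fork lf5_4)))))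
def lf6_1 : Leaf (walkS st) := ⟨[6], [], 6, 0, (fun off v => (stp6 off v)), (fun _ v => v), (fun _ u _ => u), fun _ _ => rfl, fun _ _ => rfl⟩
def lf6_2 : Leaf (walkS st) := ⟨[], [9, 6], 6, 0, (fun _ v => v), (fun off v => (stp6 off (stp9 off v))), (fun v _ _ => v), fun _ _ => rfl, fun _ _ => rfl⟩
def tree6 : RTree (walkS st) :=
  (.node 1 .tleaf (.node 2 (.fork lf6_1) (.fork lf6_2)))
def lf7_0 : Leaf (walkS st) := ⟨[], [9, 7], 7, 0, (fun _ v => v), (fun off v => (stp7 off (stp9 off v))), (fun v _ _ => v), fun _ _ => rfl, fun _ _ => rfl⟩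
def lf7_2 : Leaf (walkS st) := ⟨[7], [], 7, 0, (fun off v => (stp7 off v)), (fun _ v => v), (fun _ u _ => u), fun _ _ => rfl, fun _ _ => rfl⟩
def tree7 : RTree (walkS st) :=
  (.node 1 (.fork lf7_0) (.node 2 .tleaf (.fork lf7_2)))
def lf8_0 : Leaf (walkS st) := ⟨[], [9, 8], 8, 0, (fun _ v => v), (fun off v => (stp8 off (stp9 off v))), (fun v _ _ => v), fun _ _ => rfl, fun _ _ => rfl⟩
def lf8_2 : Leaf (walkS st) := ⟨[8], [], 8, 0, (fun off v => (stp8 off v)), (fun _ v => v), (fun _ u _ => u), fun _ _ => rfl, fun _ _ => rfl⟩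
def tree8 : RTree (walkS st) :=
  (.node 1 (.fork lf8_0) (.node 2 .tleaf (.fork lf8_2)))
def lf9_0 : Leaf (walkS st) := ⟨[0], [9, 0], 0, 0, (fun off v => (stp0 off v)), (fun off v => (stp0 off (stp9 off v))), (fun _ _ p => p), fun _ _ => rfl, fun _ _ => rfl⟩
def lf9_1 : Leaf (walkS st) := ⟨[], [0, 1, 0, 1, 0, 1], 90, 1, (fun _ v => v), (fun off v => (stp1 off (stp0 off (stp1 off (stp0 off (stp1 off (stp0 off v))))))), (fun v _ _ => v), fun _ _ => rfl, fun _ _ => rfl⟩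
def lf9_2 : Leaf (walkS st) := ⟨[], [1, 2, 1, 2, 1, 2], 98, 1, (fun _ v => v), (fun off v => (stp2 off (stp1 off (stp2 off (stp1 off (stp2 off (stp1 off v))))))), (fun v _ _ => v), fun _ _ => rfl, fun _ _ => rfl⟩
def lf9_3 : Leaf (walkS st) := ⟨[], [2, 3, 2, 3, 2, 3], 105, 1, (fun _ v => v), (fun off v => (stp3 off (stp2 off (stp3 off (stp2 off (stp3 off (stp2 off v))))))), (fun v _ _ => v), fun _ _ => rfl, fun _ _ => rfl⟩
def lf9_4 : Leaf (walkS st) := ⟨[], [3, 4, 3, 4, 3, 4], 111, 1, (fun _ v => v), (fun off v => (stp4 off (stp3 off (stp4 off (stp3 off (stp4 off (stp3 off v))))))), (fun v _ _ => v), fun _ _ => rfl, fun _ _ => rfl⟩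
def lf9_5 : Leaf (walkS st) := ⟨[], [4, 5, 4, 5, 4, 5], 116, 1, (fun _ v => v), (fun off v => (stp5 off (stp4 off (stp5 off (stp4 off (stp5 off (stp4 off v))))))), (fun v _ _ => v), fun _ _ => rfl, fun _ _ => rfl⟩
def lf9_6 : Leaf (walkS st) := ⟨[], [5, 6, 5, 6, 5, 6], 120, 1, (fun _ v => v), (fun off v => (stp6 off (stp5 off (stp6 off (stp5 off (stp6 off (stp5 off v))))))), (fun v _ _ => v), fun _ _ => rfl, fun _ _ => rfl⟩
def lf9_7 : Leaf (walkS st) := ⟨[], [3, 7, 3, 7, 3, 7], 114, 1, (fun _ v => v), (fun off v => (stp7 off (stp3 off (stp7 off (stp3 off (stp7 off (stp3 off v))))))), (fun v _ _ => v), fun _ _ => rfl, fun _ _ => rfl⟩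
def lf9_8 : Leaf (walkS st) := ⟨[], [7, 0, 1, 2, 3, 4, 5, 7, 0, 1, 2, 3, 4, 5, 7, 0, 1, 2, 3, 4, 5, 7, 0, 1, 2, 3, 4, 5, 7, 0, 1, 2, 3, 4, 5, 7, 0, 1, 2, 3, 4, 5, 7, 0, 1, 2, 3, 4, 5, 7, 0, 1, 2, 3, 4, 5, 7, 0, 1, 2, 3, 4, 5, 9], 246, 57, (fun _ v => v), (fun off v => (stp9 off (stp5 off (stp4 off (stp3 off (stp2 off (stp1 off (stp0 off (stp7 off (stp5 off (stp4 off (stp3 off (stp2 off (stp1 off (stp0 off (stp7 off (stp5 off (stp4 off (stp3 off (stp2 off (stp1 off (stp0 off (stp7 off (stp5 off (stp4 off (stp3 off (stp2 off (stp1 off (stp0 off (stp7 off (stp5 off (stp4 off (stp3 off (stp2 off (stp1 off (stp0 off (stp7 off (stp5 off (stp4 off (stp3 off (stp2 off (stp1 off (stp0 off (stp7 off (stp5 off (stp4 off (stp3 off (stp2 off (stp1 off (stp0 off (stp7 off (stp5 off (stp4 off (stp3 off (stp2 off (stp1 off (stp0 off (stp7 off (stp5 off (stp4 off (stp3 off (stp2 off (stp1 off (stp0 off (stp7 off v))))))))))))))))))))))))))))))))))))))))))))))))))))))))))))))))),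 (fun v _ _ => v), fun _ _ => rfl, fun _ _ => rfl⟩
def lf9_9 : Leaf (walkS st) := ⟨[], [7, 8, 7, 8], 80, 1, (fun _ v => v), (fun off v => (stp8 off (stp7 off (stp8 off (stp7 off v))))), (fun v _ _ => v), fun _ _ => rfl, fun _ _ => rfl⟩
def lf9_10 : Leaf (walkS st) := ⟨[], [7, 8, 7, 8, 7, 8], 244, 0, (fun _ v => v), (fun off v => (stp8 off (stp7 off (stp8 off (stp7 off (stp8 off (stp7 off v))))))), (fun v _ _ => v), fun _ _ => rfl, fun _ _ => rfl⟩
def tree9 : RTree (walkS st) :=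
  (.node 2 (.node 1 (.fork lf9_0) (.fork lf9_1)) (.node 6 (.node 4 (.node 3 (.fork lf9_2) (.fork lf9_3)) (.node 5 (.fork lf9_4) (.fork lf9_5))) (.node 8 (.node 7 (.fork lf9_6) (.fork lf9_7)) (.node 9 (.fork lf9_8) (.node 10 (.fork lf9_9) (.fork lf9_10))))))
def trees : Nat → RTree (walkS st)
  | 0 => tree0
  | 1 => tree1
  | 2 => tree2
  | 3 => tree3
  | 4 => tree4
  | 5 => tree5
  | 6 => tree6
  | 7 => tree7
  | 8 => tree8
  | 9 => tree9
  | _ => .tleaf
noncomputable def fs0 (v : Nat) : Bool := chkSlot par tA0 je0 pe 4 15 16 (deadF par tA9) (fun _ => 18) tree0 0 v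
noncomputable def fs1 (v : Nat) : Bool := chkSlot par tA1 je1 pe 4 15 16 (deadF par tA9) (fun _ => 18) tree1 1 v
noncomputable def fs2 (v : Nat) : Bool := chkSlot par tA2 je2 pe 4 15 16 (deadF par tA9) (fun _ => 18) tree2 2 v
noncomputable def fs3 (v : Nat) : Bool := chkSlot par tA3 je3 pe 4 15 16 (deadF par tA9) (fun _ => 18) tree3 3 v
noncomputable def fs4 (v : Nat) : Bool := chkSlot par tA4 je4 pe 4 15 16 (deadF par tA9) (fun _ => 18) tree4 4 v
noncomputable def fs5 (v : Nat) : Bool := chkSlot par tA5 je5 pe 4 15 16 (deadF par tA9) (fun _ => 18) tree5 5 v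
noncomputable def fs6 (v : Nat) : Bool := chkSlot par tA6 je6 pe 4 15 16 (deadF par tA9) (fun _ => 18) tree6 6 v
noncomputable def fs7 (v : Nat) : Bool := chkSlot par tA7 je7 pe 4 15 16 (deadF par tA9) (fun _ => 18) tree7 7 v
noncomputable def fs8 (v : Nat) : Bool := chkSlot par tA8 je8 pe 4 15 16 (deadF par tA9) (fun _ => 18) tree8 8 v
noncomputable def fs9 (v : Nat) : Bool := chkSlot par tA9 je9 pe 4 15 16 (fun _ => true) (fun v => Nat.pred v) tree9 9 v
def gl (k : Nat) : Bool := liveF par tA9 (Nat.succ k)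

end

end Cfsg.Agent.Lib.Helper35.Fi23Ord.P0
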